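import Mathlib

/-!
# The Coxeter relations of the symmetric group of degree five
-/

set_option autoImplicit false
set_option linter.style.haveILetI false

namespace Cfsg.Lib.Fischer.LocalSym

variable {G : Type*} [Group G]

/-- Cosets: a group generated by four involutions with the relations of adjacent transpositions. -/
structure Adj (g : Fin 4 → G) : Prop where
  sq : ∀ i, g i * g i = 1
  far : ∀ i j : Fin 4, (i : ℕ) + 2 ≤ j → g i * g j = g j * g i
  near : ∀ i j : Fin 4, (i : ℕ) + 1 = j → g i * g j * g i = g j * g i * g j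

/-- If the translates of a finite set of representatives absorb the generators, they cover the closure. -/
theorem card_closure_le {n : ℕ} (r : Fin n → G) {s : Set G} (hs : ∀ x ∈ s, x * x = 1) (K : Subgroup G)
    (h1 : ∃ i, r i ∈ K) (hstep : ∀ x ∈ s, ∀ i, ∃ j, (r j)⁻¹ * (x * r i) ∈ K) [Finite K] :
    Finite (Subgroup.closure s) ∧ Nat.card (Subgroup.closure s) ≤ n * Nat.card K := by
  let f : Fin n × K → G := fun p => r p.1 * p.2
  have hsub : (Subgroup.closure s : Set G) ⊆ Set.range f := by
    intro x hx
    induction hx using Subgroup.closure_induction_left with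
    | one =>
      obtain ⟨i, hi⟩ := h1
      exact ⟨(i, ⟨(r i)⁻¹, inv_mem hi⟩), mul_inv_cancel (r i)⟩
    | mul_left x hx y _ ih =>
      obtain ⟨⟨i, k⟩, rfl⟩ := ih
      obtain ⟨j, hj⟩ := hstep x hx i
      exact ⟨(j, ⟨_, mul_mem hj k.2⟩), by simp [f, mul_assoc]⟩
    | inv_mul_cancel x hx y _ ih =>
      obtain ⟨⟨i, k⟩, rfl⟩ := ih
      obtain ⟨j, hj⟩ := hstep x hx i
      rw [inv_eq_of_mul_eq_one_right (hs x hx)]
      exact ⟨(j, ⟨_, mul_mem hj k.2⟩), by simp [f, mul_assoc]⟩
  haveI : Finite (Subgroup.closure s) := ((Set.finite_range f).subset hsub).to_subtype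
  refine ⟨inferInstance, ?_⟩
  calc Nat.card (Subgroup.closure s) = (Subgroup.closure s : Set G).ncard := Nat.card_coe_set_eq _
    _ ≤ (Set.range f).ncard := Set.ncard_le_ncard hsub (Set.finite_range f)
    _ ≤ Nat.card (Fin n × K) := by
      rw [← Set.image_univ]
      exact (Set.ncard_image_le Set.finite_univ).trans (Set.ncard_univ _).le
    _ = n * Nat.card K := by rw [Nat.card_prod, Nat.card_fin]

theorem card_le {g : Fin 4 → G} (hg : Adj g) (hgen : Subgroup.closure (Set.range g) = ⊤) :
    Finite G ∧ Nat.card G ≤ 120 := by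
  obtain ⟨a, ha⟩ : ∃ a, a = g 3 := ⟨_, rfl⟩
  obtain ⟨b, hb⟩ : ∃ b, b = g 2 := ⟨_, rfl⟩
  obtain ⟨x, hx⟩ : ∃ x, x = g 1 := ⟨_, rfl⟩
  obtain ⟨d, hd⟩ : ∃ d, d = g 0 := ⟨_, rfl⟩
  have haa : a * a = 1 := ha ▸ hg.sq 3
  have hbb : b * b = 1 := hb ▸ hg.sq 2
  have hxx : x * x = 1 := hx ▸ hg.sq 1
  have hdd : d * d = 1 := hd ▸ hg.sq 0
  have hdb : d * b = b * d := by rw [hd, hb]; exact hg.far 0 2 (by decide)
  have hda : d * a = a * d := by rw [hd, ha]; exact hg.far 0 3 (by decide)
  have hxa : x * a = a * x := by rw [hx, ha]; exact hg.far 1 3 (by decide)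
  have hdx : d * x * d = x * d * x := by rw [hd, hx]; exact hg.near 0 1 (by decide)
  have hxb : x * b * x = b * x * b := by rw [hx, hb]; exact hg.near 1 2 (by decide)
  have hba : b * a * b = a * b * a := by rw [hb, ha]; exact hg.near 2 3 (by decide)
  have hai := inv_eq_of_mul_eq_one_right haa
  have hbi := inv_eq_of_mul_eq_one_right hbb
  have hxi := inv_eq_of_mul_eq_one_right hxx
  have hdi := inv_eq_of_mul_eq_one_right hdd
  have hsq : ∀ y ∈ ({d, x, b, a} : Set G), y * y = 1 := by
    rintro y (rfl | rfl | rfl | rfl) <;> assumption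
  -- the subgroup generated by `a`
  have hA : Finite (Subgroup.zpowers a) ∧ Nat.card (Subgroup.zpowers a) ≤ 2 := by
    have ho : orderOf a ∣ 2 := orderOf_dvd_of_pow_eq_one (by rw [pow_two, haa])
    have hfo : IsOfFinOrder a := isOfFinOrder_iff_pow_eq_one.2 ⟨2, by norm_num, by rw [pow_two, haa]⟩
    exact ⟨hfo.finite_zpowers.to_subtype, by rw [Nat.card_zpowers]; exact Nat.le_of_dvd (by norm_num) ho⟩
  haveI := hA.1
  have hB := card_closure_le ![1, b, a * b] (s := {b, a}) (fun y hy => hsq y (by aesop))
    (Subgroup.zpowers a) ⟨0, by simp⟩ (by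
      rintro y (rfl | rfl) i
      · fin_cases i
        · exact ⟨1, by simp⟩
        · exact ⟨0, by simp [hbb]⟩
        · refine ⟨2, ?_⟩
          have e : y * (a * y) = a * y * a := by rw [← mul_assoc, hba]
          simp only [Fin.mk_one, Fin.reduceFinMk, Matrix.cons_val]
          rw [e, inv_mul_cancel_left]
          exact Subgroup.mem_zpowers a
      · fin_cases i
        · exact ⟨0, by simp⟩
        · exact ⟨2, by simp⟩
        · exact ⟨1, by simp [← mul_assoc, haa, hbb, hbi]⟩)
  haveI := hB.1
  set K2 := Subgroup.closure ({b, a} : Set G)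
  have hbK : b ∈ K2 := Subgroup.subset_closure (Set.mem_insert _ _)
  have haK : a ∈ K2 := Subgroup.subset_closure (Set.mem_insert_of_mem _ rfl)
  have hC := card_closure_le ![1, x, b * x, a * b * x] (s := {x, b, a}) (fun y hy => hsq y (by aesop))
    K2 ⟨0, by simp⟩ (by
      rintro y (rfl | rfl | rfl) i
      · fin_cases i
        · exact ⟨1, by simp⟩
        · exact ⟨0, by simp [hxx]⟩
        · refine ⟨2, ?_⟩
          have e : y * (b * y) = b * y * b := by rw [← mul_assoc, hxb]
          simp only [Fin.mk_one, Fin.reduceFinMk, Matrix.cons_val]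
          rw [e, inv_mul_cancel_left]; exact hbK
        · refine ⟨3, ?_⟩
          have e : y * (a * b * y) = a * b * y * b := by
            calc y * (a * b * y) = (y * a) * b * y := by simp only [mul_assoc]
              _ = a * (y * b * y) := by rw [hxa]; simp only [mul_assoc]
              _ = _ := by rw [hxb]; simp only [mul_assoc]
          simp only [Fin.mk_one, Fin.reduceFinMk, Matrix.cons_val]
          rw [e, inv_mul_cancel_left]; exact hbK
      · fin_cases i
        · exact ⟨0, by simpa using hbK⟩
        · exact ⟨2, by simp⟩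
        · exact ⟨1, by simp [← mul_assoc, hbb]⟩
        · refine ⟨3, ?_⟩
          have e : y * (a * y * x) = a * y * x * a := by
            calc y * (a * y * x) = (y * a * y) * x := by simp only [mul_assoc]
              _ = a * y * (a * x) := by rw [hba]; simp only [mul_assoc]
              _ = _ := by rw [← hxa]; simp only [mul_assoc]
          simp only [Fin.mk_one, Fin.reduceFinMk, Matrix.cons_val]
          rw [e, inv_mul_cancel_left]; exact haK
      · fin_cases i
        · exact ⟨0, by simpa using haK⟩
        · refine ⟨1, ?_⟩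
          simp only [Fin.mk_one, Fin.reduceFinMk, Matrix.cons_val]
          rw [← hxa, inv_mul_cancel_left]; exact haK
        · exact ⟨3, by simp [← mul_assoc]⟩
        · exact ⟨2, by simp [← mul_assoc, haa]⟩)
  haveI := hC.1
  set K3 := Subgroup.closure ({x, b, a} : Set G)
  have hxK : x ∈ K3 := Subgroup.subset_closure (Set.mem_insert _ _)
  have hbK3 : b ∈ K3 := Subgroup.subset_closure (Set.mem_insert_of_mem _ (Set.mem_insert _ _))
  have haK3 : a ∈ K3 := Subgroup.subset_closure (Set.mem_insert_of_mem _ (Set.mem_insert_of_mem _ rfl))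
  have hD := card_closure_le ![1, d, x * d, b * x * d, a * b * x * d] (s := {d, x, b, a}) hsq
    K3 ⟨0, by simp⟩ (by
      rintro y (rfl | rfl | rfl | rfl) i
      · fin_cases i
        · exact ⟨1, by simp⟩
        · exact ⟨0, by simp [hdd]⟩
        · refine ⟨2, ?_⟩
          simp only [Fin.mk_one, Fin.reduceFinMk, Matrix.cons_val]
          rw [← mul_assoc y, hdx, inv_mul_cancel_left]; exact hxK
        · refine ⟨3, ?_⟩
          have e : y * (b * x * y) = b * x * y * x := by
            calc y * (b * x * y) = (y * b) * x * y := by simp only [mul_assoc]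
              _ = b * (y * x * y) := by rw [hdb]; simp only [mul_assoc]
              _ = _ := by rw [hdx]; simp only [mul_assoc]
          simp only [Fin.mk_one, Fin.reduceFinMk, Matrix.cons_val]
          rw [e, inv_mul_cancel_left]; exact hxK
        · refine ⟨4, ?_⟩
          have e : y * (a * b * x * y) = a * b * x * y * x := by
            calc y * (a * b * x * y) = (y * a) * b * x * y := by simp only [mul_assoc]
              _ = a * ((y * b) * x * y) := by rw [hda]; simp only [mul_assoc]
              _ = a * b * (y * x * y) := by rw [hdb]; simp only [mul_assoc]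
              _ = _ := by rw [hdx]; simp only [mul_assoc]
          simp only [Fin.mk_one, Fin.reduceFinMk, Matrix.cons_val]
          rw [e, inv_mul_cancel_left]; exact hxK
      · fin_cases i
        · exact ⟨0, by simpa using hxK⟩
        · exact ⟨2, by simp⟩
        · exact ⟨1, by simp [← mul_assoc, hxx]⟩
        · refine ⟨3, ?_⟩
          have e : y * (b * y * d) = b * y * d * b := by
            calc y * (b * y * d) = (y * b * y) * d := by simp only [mul_assoc]
              _ = b * y * (b * d) := by rw [hxb]; simp only [mul_assoc]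
              _ = _ := by rw [← hdb]; simp only [mul_assoc]
          simp only [Fin.mk_one, Fin.reduceFinMk, Matrix.cons_val]
          rw [e, inv_mul_cancel_left]; exact hbK3
        · refine ⟨4, ?_⟩
          have e : y * (a * b * y * d) = a * b * y * d * b := by
            calc y * (a * b * y * d) = (y * a) * b * y * d := by simp only [mul_assoc]
              _ = a * (y * b * y) * d := by rw [hxa]; simp only [mul_assoc]
              _ = a * b * y * (b * d) := by rw [hxb]; simp only [mul_assoc]
              _ = _ := by rw [← hdb]; simp only [mul_assoc]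
          simp only [Fin.mk_one, Fin.reduceFinMk, Matrix.cons_val]
          rw [e, inv_mul_cancel_left]; exact hbK3
      · fin_cases i
        · exact ⟨0, by simpa using hbK3⟩
        · refine ⟨1, ?_⟩
          simp only [Fin.mk_one, Fin.reduceFinMk, Matrix.cons_val]
          rw [← hdb, inv_mul_cancel_left]; exact hbK3
        · exact ⟨3, by simp [← mul_assoc]⟩
        · exact ⟨2, by simp [← mul_assoc, hbb]⟩
        · refine ⟨4, ?_⟩
          have e : y * (a * y * x * d) = a * y * x * d * a := by
            calc y * (a * y * x * d) = (y * a * y) * x * d := by simp only [mul_assoc]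
              _ = a * y * (a * x) * d := by rw [hba]; simp only [mul_assoc]
              _ = a * y * x * (a * d) := by rw [← hxa]; simp only [mul_assoc]
              _ = _ := by rw [← hda]; simp only [mul_assoc]
          simp only [Fin.mk_one, Fin.reduceFinMk, Matrix.cons_val]
          rw [e, inv_mul_cancel_left]; exact haK3
      · fin_cases i
        · exact ⟨0, by simpa using haK3⟩
        · refine ⟨1, ?_⟩
          simp only [Fin.mk_one, Fin.reduceFinMk, Matrix.cons_val]
          rw [← hda, inv_mul_cancel_left]; exact haK3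
        · refine ⟨2, ?_⟩
          have e : y * (x * d) = x * d * y := by rw [← mul_assoc, ← hxa, mul_assoc, ← hda, mul_assoc]
          simp only [Fin.mk_one, Fin.reduceFinMk, Matrix.cons_val]
          rw [e, inv_mul_cancel_left]; exact haK3
        · exact ⟨4, by simp [← mul_assoc]⟩
        · exact ⟨3, by simp [← mul_assoc, haa]⟩)
  have hr : Set.range g = {d, x, b, a} := by
    ext y
    simp only [Set.mem_range, Fin.exists_fin_succ, Set.mem_insert_iff, Set.mem_singleton_iff, hd, hx, hb, ha]
    simp only [Fin.isEmpty', IsEmpty.exists_iff, or_false, eq_comm (a := y)]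
    rfl
  rw [← hr, hgen] at hD
  haveI : Finite (⊤ : Subgroup G) := hD.1
  refine ⟨Finite.of_equiv (⊤ : Subgroup G) Subgroup.topEquiv.toEquiv, ?_⟩
  rw [← Subgroup.card_top]
  have h1 := hB.2
  have h2 := hC.2
  have h3 := hD.2
  have h4 := hA.2
  omega

/-- The relators of adjacent transpositions. -/
def adjRels : Set (FreeGroup (Fin 4)) :=
  {r | ∃ i, r = FreeGroup.of i * FreeGroup.of i} ∪
  {r | ∃ i j : Fin 4, (i : ℕ) + 2 ≤ j ∧
    r = FreeGroup.of i * FreeGroup.of j * (FreeGroup.of j * FreeGroup.of i)⁻¹} ∪
  {r | ∃ i j : Fin 4, (i : ℕ) + 1 = j ∧ r = FreeGroup.of i * FreeGroup.of j * FreeGroup.of i *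
    (FreeGroup.of j * FreeGroup.of i * FreeGroup.of j)⁻¹}

theorem lift_adjRels {K : Type*} [Group K] (f : Fin 4 → K) (hf : Adj f) :
    ∀ r ∈ adjRels, FreeGroup.lift f r = 1 := by
  intro r hr
  rcases hr with (⟨i, rfl⟩ | ⟨i, j, hij, rfl⟩) | ⟨i, j, hij, rfl⟩ <;>
    simp only [map_mul, map_inv, FreeGroup.lift_apply_of]
  · exact hf.sq i
  · rw [hf.far i j hij, mul_inv_cancel]
  · rw [hf.near i j hij, mul_inv_cancel]

open Equiv in
/-- The relations of adjacent transpositions give a homomorphism. -/
theorem exists_hom {g : Fin 4 → G} (hg : Adj g) :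
    ∃ φ : Perm (Fin 5) →* G, ∀ i : Fin 4, φ (swap i.castSucc i.succ) = g i := by
  have hrel : Adj (fun i : Fin 4 => (PresentedGroup.of i : PresentedGroup adjRels)) := by
    have h1 : ∀ r ∈ adjRels, PresentedGroup.mk adjRels r = 1 :=
      fun r hr => PresentedGroup.one_of_mem hr
    refine ⟨fun i => ?_, fun i j hij => ?_, fun i j hij => ?_⟩
    · exact (map_mul _ _ _).symm.trans (h1 _ (Or.inl (Or.inl ⟨i, rfl⟩)))
    · refine mul_inv_eq_one.1 ?_
      have := h1 _ (Or.inl (Or.inr ⟨i, j, hij, rfl⟩))
      simpa [map_mul, map_inv, PresentedGroup.of] using this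
    · refine mul_inv_eq_one.1 ?_
      have := h1 _ (Or.inr ⟨i, j, hij, rfl⟩)
      simpa [map_mul, map_inv, PresentedGroup.of] using this
  obtain ⟨hfin, hle⟩ := card_le hrel (PresentedGroup.closure_range_of adjRels)
  haveI := hfin
  let s : Fin 4 → Perm (Fin 5) := fun i => swap i.castSucc i.succ
  have hs : Adj s := ⟨by decide +kernel, by decide +kernel, by decide +kernel⟩
  let π : PresentedGroup adjRels →* Perm (Fin 5) := PresentedGroup.toGroup (lift_adjRels s hs)
  have hπ : Function.Surjective π := by
    intro σ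
    have hσ : σ ∈ Submonoid.closure (Set.range fun i : Fin 4 => swap i.castSucc i.succ) := by
      rw [Equiv.Perm.mclosure_swap_castSucc_succ 4]; trivial
    induction hσ using Submonoid.closure_induction with
    | mem y hy =>
      obtain ⟨i, rfl⟩ := hy
      exact ⟨PresentedGroup.of i, PresentedGroup.toGroup.of _⟩
    | one => exact ⟨1, map_one π⟩
    | mul p q _ _ ihp ihq =>
      obtain ⟨u, rfl⟩ := ihp
      obtain ⟨v, rfl⟩ := ihq
      exact ⟨u * v, map_mul π u v⟩
  have hcard : Nat.card (Perm (Fin 5)) = 120 := by rw [Nat.card_perm, Nat.card_fin]; rfl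
  have hbij : Function.Bijective π := (Nat.bijective_iff_surjective_and_card _).2
    ⟨hπ, le_antisymm (hle.trans hcard.ge) (Nat.card_le_card_of_surjective π hπ)⟩
  refine ⟨(PresentedGroup.toGroup (lift_adjRels g hg)).comp (MulEquiv.ofBijective π hbij).symm.toMonoidHom, fun i => ?_⟩
  have e : (MulEquiv.ofBijective π hbij).symm (s i) = PresentedGroup.of i := by
    rw [MulEquiv.symm_apply_eq]
    exact (PresentedGroup.toGroup.of (lift_adjRels s hs)).symm
  show PresentedGroup.toGroup (lift_adjRels g hg) ((MulEquiv.ofBijective π hbij).symm (s i)) = g i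
  rw [e, PresentedGroup.toGroup.of]

/-- A homomorphism of the symmetric group of degree five separating two pairs of transpositions is injective. -/
theorem injective_of_ne {φ : Equiv.Perm (Fin 5) →* G}
    (h : φ (Equiv.swap 0 1) ≠ φ (Equiv.swap 3 4)) : Function.Injective φ := by
  rw [← MonoidHom.ker_eq_bot_iff]
  haveI := alternatingGroup.isSimpleGroup_five
  rcases Subgroup.Normal.eq_bot_or_eq_top
    (inferInstance : (φ.ker.subgroupOf (alternatingGroup (Fin 5))).Normal) with h1 | h1
  · rw [Subgroup.eq_bot_iff_forall]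
    intro σ hσ
    have hcen : σ ∈ Subgroup.center (Equiv.Perm (Fin 5)) := Subgroup.mem_center_iff.2 fun τ => by
      have hc : σ * τ * σ⁻¹ * τ⁻¹ ∈ φ.ker := by
        rw [MonoidHom.mem_ker] at hσ ⊢
        simp [hσ]
      have hA : σ * τ * σ⁻¹ * τ⁻¹ ∈ alternatingGroup (Fin 5) := by
        rw [Equiv.Perm.mem_alternatingGroup]
        simp only [map_mul, map_inv]
        rw [mul_comm (Equiv.Perm.sign σ) (Equiv.Perm.sign τ), mul_inv_cancel_right, mul_inv_cancel]
      have h2 : (⟨_, hA⟩ : alternatingGroup (Fin 5)) ∈ φ.ker.subgroupOf (alternatingGroup (Fin 5)) :=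
        Subgroup.mem_subgroupOf.2 hc
      rw [h1, Subgroup.mem_bot] at h2
      exact (mul_inv_eq_iff_eq_mul.1 (mul_inv_eq_one.1 (congrArg Subtype.val h2))).symm
    exact (by decide +kernel : ∀ σ : Equiv.Perm (Fin 5), (∀ g, g * σ = σ * g) → σ = 1) σ
      (Subgroup.mem_center_iff.1 hcen)
  · exfalso
    apply h
    have hA : Equiv.swap (0 : Fin 5) 1 * Equiv.swap 3 4 ∈ alternatingGroup (Fin 5) :=
      Equiv.Perm.mem_alternatingGroup.2 (by decide)
    have h2 : (⟨_, hA⟩ : alternatingGroup (Fin 5)) ∈ φ.ker.subgroupOf (alternatingGroup (Fin 5)) := by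
      rw [h1]; exact Subgroup.mem_top _
    rw [Subgroup.mem_subgroupOf, MonoidHom.mem_ker, map_mul, ← eq_inv_iff_mul_eq_one, ← map_inv,
      Equiv.swap_inv] at h2
    exact h2

end Cfsg.Lib.Fischer.LocalSym
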