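import Cfsg.Agent.Lib.Fischer.LocalSym.Square

/-!
# Locally symmetric-of-degree-three sets of 3-transpositions
-/

set_option autoImplicit false
set_option linter.style.haveILetI false

namespace Cfsg.Lib.Fischer.LocalSym

open Equiv

variable {G : Type*} [Group G] {D : Set G}

theorem cubic_of_local (hset : Cfsg.IsThreeTranspositionSet D) (hconj : ∀ g : G, ∀ d ∈ D, g * d * g⁻¹ ∈ D)
    (hloc : ∀ d ∈ D, Nonempty (↥(Subgroup.closure (nbrs D d)) ≃* Perm (Fin 3))) : Cubic D := by
  have hs3 : ∀ σ τ : Perm (Fin 3), σ * σ = 1 → τ * τ = 1 → σ ≠ 1 → τ ≠ 1 → σ ≠ τ → σ * τ ≠ τ * σ := by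
    decide +kernel
  have hs3' : ∀ σ τ ρ : Perm (Fin 3), σ * σ = 1 → τ * τ = 1 → ρ * ρ = 1 → σ ≠ 1 → τ ≠ 1 → ρ ≠ 1 → σ ≠ τ →
      ρ = σ ∨ ρ = τ ∨ ρ = σ * τ * σ := by
    have h : ∀ σ : Perm (Fin 3), σ * σ = 1 → σ = 1 ∨ σ = swap 0 1 ∨ σ = swap 0 2 ∨ σ = swap 1 2 := by
      decide +kernel
    intro σ τ ρ hσ hτ hρ hσ1 hτ1 hρ1 hne
    rcases (h σ hσ).resolve_left hσ1 with rfl | rfl | rfl <;>
      rcases (h τ hτ).resolve_left hτ1 with rfl | rfl | rfl <;>
      rcases (h ρ hρ).resolve_left hρ1 with rfl | rfl | rfl <;>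
      first | exact absurd rfl hne | decide +kernel
  have key : ∀ d ∈ D, ∀ e : ↥(Subgroup.closure (nbrs D d)) ≃* Perm (Fin 3), ∀ x (hx : x ∈ nbrs D d),
      e ⟨x, Subgroup.subset_closure hx⟩ * e ⟨x, Subgroup.subset_closure hx⟩ = 1 ∧
        e ⟨x, Subgroup.subset_closure hx⟩ ≠ 1 := by
    intro d _ e x hx
    have hxx : x * x = 1 := by rw [← pow_two, ← hset.1 x hx.1, pow_orderOf_eq_one]
    refine ⟨?_, fun h => ?_⟩
    · rw [← map_mul, show (⟨x, Subgroup.subset_closure hx⟩ : Subgroup.closure (nbrs D d)) *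
        ⟨x, Subgroup.subset_closure hx⟩ = 1 from Subtype.ext hxx, map_one]
    · rw [← map_one e] at h
      have h1 : x = 1 := congrArg Subtype.val (e.injective h)
      have := hset.1 x hx.1
      rw [h1, orderOf_one] at this
      exact absurd this (by norm_num)
  refine ⟨hset, hconj, fun d hd => ?_, fun d hd a ha b hb hab => ?_, fun d hd a ha b hb hab c hc => ?_⟩
  · obtain ⟨e⟩ := hloc d hd
    by_contra hcon
    push Not at hcon
    have hcard : Nat.card (Subgroup.closure (nbrs D d)) = 6 := by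
      rw [Nat.card_congr e.toEquiv, Nat.card_perm, Nat.card_fin]; rfl
    rcases (nbrs D d).eq_empty_or_nonempty with h | ⟨a, ha⟩
    · rw [h, Subgroup.closure_empty, Subgroup.card_bot] at hcard
      norm_num at hcard
    · rw [show nbrs D d = {a} from Set.eq_singleton_iff_unique_mem.2 ⟨ha, fun b hb => hcon b hb a ha⟩,
        ← Subgroup.zpowers_eq_closure, Nat.card_zpowers, hset.1 a ha.1] at hcard
      norm_num at hcard
  · obtain ⟨e⟩ := hloc d hd
    obtain ⟨a2, a1⟩ := key d hd e a ha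
    obtain ⟨b2, b1⟩ := key d hd e b hb
    intro h
    refine hs3 _ _ a2 b2 a1 b1 (fun h' => hab (congrArg Subtype.val (e.injective h'))) ?_
    rw [← map_mul, ← map_mul]
    exact congrArg e (Subtype.ext h.eq)
  · obtain ⟨e⟩ := hloc d hd
    obtain ⟨a2, a1⟩ := key d hd e a ha
    obtain ⟨b2, b1⟩ := key d hd e b hb
    obtain ⟨c2, c1⟩ := key d hd e c hc
    rcases hs3' _ _ _ a2 b2 c2 a1 b1 c1 (fun h' => hab (congrArg Subtype.val (e.injective h'))) with h | h | h
    · exact Or.inl (congrArg Subtype.val (e.injective h))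
    · exact Or.inr (Or.inl (congrArg Subtype.val (e.injective h)))
    · rw [← map_mul, ← map_mul] at h
      exact Or.inr (Or.inr (congrArg Subtype.val (e.injective h)))

/-- Two commuting subgroups isomorphic to the symmetric group of degree three generate their product. -/
theorem nonempty_sup_equiv {A B : Subgroup G} (hcomm : ∀ a ∈ A, ∀ b ∈ B, Commute a b)
    (eA : A ≃* Perm (Fin 3)) (eB : B ≃* Perm (Fin 3)) :
    Nonempty (↥(A ⊔ B) ≃* Perm (Fin 3) × Perm (Fin 3)) := by
  let f : A × B →* G := MonoidHom.noncommCoprod A.subtype B.subtype fun a b => hcomm a a.2 b b.2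
  have hinj : Function.Injective f := by
    rw [injective_iff_map_eq_one]
    rintro ⟨a, b⟩ h
    have h' : (a : G) * b = 1 := h
    have haB : (a : G) ∈ B := by rw [eq_inv_of_mul_eq_one_left h']; exact inv_mem b.2
    have hc : ∀ τ : Perm (Fin 3), τ * eA a = eA a * τ := fun τ => by
      obtain ⟨x, rfl⟩ := eA.surjective τ
      rw [← map_mul, ← map_mul]
      exact congrArg eA (Subtype.ext (hcomm x x.2 a haB).eq)
    have ha1 : a = 1 := eA.injective (((by decide +kernel : ∀ σ : Perm (Fin 3), (∀ τ, τ * σ = σ * τ) → σ = 1)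
      _ hc).trans (map_one eA).symm)
    have hb1 : b = 1 := by
      rw [ha1, Subgroup.coe_one, one_mul] at h'
      exact Subtype.ext h'
    rw [ha1, hb1]; rfl
  have hr : f.range = A ⊔ B := by
    apply le_antisymm
    · rintro _ ⟨⟨a, b⟩, rfl⟩
      exact mul_mem (Subgroup.mem_sup_left a.2) (Subgroup.mem_sup_right b.2)
    · refine sup_le (fun a ha => ⟨(⟨a, ha⟩, 1), ?_⟩) fun b hb => ⟨(1, ⟨b, hb⟩), ?_⟩
      · show a * ((1 : B) : G) = a; rw [Subgroup.coe_one, mul_one]
      · show ((1 : A) : G) * b = b; rw [Subgroup.coe_one, one_mul]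
  exact ⟨((MulEquiv.subgroupCongr hr.symm).trans (MonoidHom.ofInjective hinj).symm).trans
    (MulEquiv.prodCongr eA eB)⟩

theorem classification [Finite G] (hset : Cfsg.IsThreeTranspositionSet D)
    (hconj : ∀ g : G, ∀ d ∈ D, g * d * g⁻¹ ∈ D) (hne : D.Nonempty)
    (hloc : ∀ d ∈ D, Nonempty (↥(Subgroup.closure (nbrs D d)) ≃* Perm (Fin 3)) ∧
      Nat.card (Cfsg.pCore 3 ↥(Subgroup.centralizer ({d} : Set G))) = 3) :
    Nonempty (↥(Subgroup.closure D) ≃* Perm (Fin 5)) ∨
      Nonempty (↥(Subgroup.closure D) ≃* Perm (Fin 3) × Perm (Fin 3)) := by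
  have hC := cubic_of_local hset hconj fun d hd => (hloc d hd).1
  by_cases hSq : ∀ a ∈ D, ∀ x ∈ nbrs D a, ∀ y ∈ nbrs D a, nbrs D x = nbrs D y
  · right
    obtain ⟨d, hd⟩ := hne
    obtain ⟨a, ha, -⟩ := hC.two d hd
    obtain ⟨eA⟩ := (hloc a ha.1).1
    obtain ⟨eB⟩ := (hloc d hd).1
    have hcomm : ∀ u ∈ Subgroup.closure (nbrs D a), ∀ v ∈ Subgroup.closure (nbrs D d), Commute u v := by
      have h1 : Subgroup.closure (nbrs D a) ≤ Subgroup.centralizer (nbrs D d) := by
        refine (Subgroup.closure_le _).2 fun u hu => Subgroup.mem_centralizer_iff.2 fun v hv => ?_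
        exact ((hSq a ha.1 u hu d (hC.mem_symm hd ha)).symm ▸ hv : v ∈ nbrs D u).2.2.eq.symm
      intro u hu v hv
      have h2 : Subgroup.closure (nbrs D d) ≤ Subgroup.centralizer {u} :=
        (Subgroup.closure_le _).2 fun w hw => Subgroup.mem_centralizer_singleton_iff.2
          (Subgroup.mem_centralizer_iff.1 (h1 hu) w hw)
      exact (Subgroup.mem_centralizer_singleton_iff.1 (h2 hv)).symm
    obtain ⟨e⟩ := nonempty_sup_equiv hcomm eA eB
    have heq : Subgroup.closure D = Subgroup.closure (nbrs D a) ⊔ Subgroup.closure (nbrs D d) := by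
      rw [← Subgroup.closure_union]
      refine le_antisymm (Subgroup.closure_mono fun x hx => ?_) (Subgroup.closure_mono ?_)
      · exact hC.no_outside hSq (fun d hd => (hloc d hd).2) hd ha hx
      · rintro x (h | h) <;> exact h.1
    exact ⟨(MulEquiv.subgroupCongr heq).trans e⟩
  · left
    push Not at hSq
    obtain ⟨a, ha, x, hx, y, hy, hne'⟩ := hSq
    obtain ⟨d, hd, x, hx, b, hb, hbx⟩ :
        ∃ d ∈ nbrs D a, ∃ x ∈ nbrs D a, ∃ b ∈ nbrs D d, b ∉ nbrs D x := by
      by_cases h : ∃ b ∈ nbrs D x, b ∉ nbrs D y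
      · obtain ⟨b, hb, hby⟩ := h
        exact ⟨x, hx, y, hy, b, hb, hby⟩
      · push Not at h
        obtain ⟨b, hb, hbx⟩ : ∃ b ∈ nbrs D y, b ∉ nbrs D x := by
          by_contra hc
          push Not at hc
          exact hne' (Set.Subset.antisymm h hc)
        exact ⟨y, hy, x, hx, b, hb, hbx⟩
    obtain ⟨φ, hinj, hmem, hcl⟩ := hC.exists_sym_five ha hd hx hb hbx
    have heq : φ.range = Subgroup.closure D := by
      apply le_antisymm
      · rintro _ ⟨σ, rfl⟩
        induction σ using Equiv.Perm.swap_induction_on with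
        | one => rw [map_one]; exact one_mem _
        | swap_mul f i j hij ih =>
          rw [map_mul]; exact mul_mem (Subgroup.subset_closure (hmem i j hij)) ih
      · refine (Subgroup.closure_le _).2 fun e he => ?_
        obtain ⟨i, j, -, h⟩ := hC.exists_eq_swap hinj hmem hcl he
        exact ⟨_, h⟩
    exact ⟨(MulEquiv.subgroupCongr heq.symm).trans (MonoidHom.ofInjective hinj).symm⟩

end Cfsg.Lib.Fischer.LocalSym
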