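import Cfsg.Agent.Lib.Fischer.Basic
import Cfsg.Agent.Lib.Fischer.LocalSym.SymFive
import Cfsg.Agent.Lib.Core.Cores
import Cfsg.Prelude.Def_Local

/-!
# Conjugation-invariant sets of 3-transpositions with cubic commuting graph
-/

set_option autoImplicit false
set_option linter.style.haveILetI false

namespace Cfsg.Lib.Fischer.LocalSym

variable {G : Type*} [Group G]

/-- Conjugate of `x` by `g`. -/
def tw (g x : G) : G := g * x * g⁻¹

theorem tw_tw (g h x : G) : tw g (tw h x) = tw (g * h) x := by simp [tw, mul_assoc]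

theorem tw_mul (g x y : G) : tw g (x * y) = tw g x * tw g y := by simp [tw, mul_assoc]

/-- The members commuting with `x` other than `x`. -/
def nbrs (D : Set G) (x : G) : Set G := {y : G | y ∈ D ∧ y ≠ x ∧ Commute x y}

/-- A conjugation-invariant set of 3-transpositions each of whose members has three pairwise
non-commuting neighbours. -/
structure Cubic (D : Set G) : Prop where
  set : Cfsg.IsThreeTranspositionSet D
  conj : ∀ g : G, ∀ d ∈ D, g * d * g⁻¹ ∈ D
  two : ∀ d ∈ D, ∃ a ∈ nbrs D d, ∃ b ∈ nbrs D d, a ≠ b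
  nc : ∀ d ∈ D, ∀ a ∈ nbrs D d, ∀ b ∈ nbrs D d, a ≠ b → ¬ Commute a b
  three : ∀ d ∈ D, ∀ a ∈ nbrs D d, ∀ b ∈ nbrs D d, a ≠ b → ∀ c ∈ nbrs D d, c = a ∨ c = b ∨ c = a * b * a

variable {D : Set G} (hC : Cubic D)
include hC

namespace Cubic

theorem mul_self {a : G} (ha : a ∈ D) : a * a = 1 := by
  rw [← pow_two, ← hC.set.1 a ha, pow_orderOf_eq_one]

theorem inv_eq {a : G} (ha : a ∈ D) : a⁻¹ = a := inv_eq_of_mul_eq_one_right (hC.mul_self ha)

theorem tw_mem {d : G} (g : G) (hd : d ∈ D) : tw g d ∈ D := hC.conj g d hd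

theorem tw_self_tw {a : G} (ha : a ∈ D) (x : G) : tw a (tw a x) = x := by
  rw [tw_tw, hC.mul_self ha]; simp [tw]

theorem braid {a b : G} (ha : a ∈ D) (hb : b ∈ D) (h : ¬ Commute a b) : tw a b = tw b a := by
  have hp : (a * b) ^ 3 = 1 := (hC.set.2 a ha b hb).resolve_left fun h2 => h (by
    rw [pow_two, ← eq_inv_iff_mul_eq_one, mul_inv_rev, hC.inv_eq ha, hC.inv_eq hb] at h2
    exact h2)
  have h3 : (a * b * a) * (b * a * b) = 1 := by
    rw [pow_succ, pow_two] at hp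
    simpa [mul_assoc] using hp
  rw [tw, tw, hC.inv_eq ha, hC.inv_eq hb, eq_inv_iff_mul_eq_one.2 h3]
  simp [mul_inv_rev, hC.inv_eq ha, hC.inv_eq hb, mul_assoc]

theorem mem_symm {d a : G} (hd : d ∈ D) (h : a ∈ nbrs D d) : d ∈ nbrs D a := ⟨hd, h.2.1.symm, h.2.2.symm⟩

theorem nbrs_tw {d y : G} (g : G) (hy : y ∈ nbrs D d) : tw g y ∈ nbrs D (tw g d) :=
  ⟨hC.tw_mem g hy.1, fun h => hy.2.1 (mul_left_cancel (mul_right_cancel h)), (Commute.conj_iff g).2 hy.2.2⟩

theorem not_comm {d a b : G} (hd : d ∈ D) (ha : a ∈ nbrs D d) (hb : b ∈ nbrs D d) (hne : a ≠ b) :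
    ¬ Commute a b := hC.nc d hd a ha b hb hne

/-- Three distinct neighbours exhaust the neighbours. -/
theorem exhaust {d p q r : G} (hd : d ∈ D) (hp : p ∈ nbrs D d) (hq : q ∈ nbrs D d) (hr : r ∈ nbrs D d)
    (hpq : p ≠ q) (hpr : p ≠ r) (hqr : q ≠ r) {c : G} (hc : c ∈ nbrs D d) : c = p ∨ c = q ∨ c = r := by
  rcases hC.three d hd p hp q hq hpq c hc with h | h | h
  · exact Or.inl h
  · exact Or.inr (Or.inl h)
  · rcases hC.three d hd p hp q hq hpq r hr with h' | h' | h'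
    · exact absurd h'.symm hpr
    · exact absurd h'.symm hqr
    · exact Or.inr (Or.inr (h.trans h'.symm))

/-- The involution of the four-group of a commuting pair moves an outside member to a neighbour. -/
theorem pair_step {u v e : G} (hu : u ∈ D) (hv : v ∈ D) (he : e ∈ D) (huv : Commute u v) (hne : u ≠ v)
    (heu : ¬ Commute e u) (hev : ¬ Commute e v) : tw (u * v) e ∈ nbrs D e := by
  have hf : tw (u * v) e = tw u (tw e v) := by rw [← tw_tw, hC.braid hv he (fun h => hev h.symm)]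
  refine ⟨hC.tw_mem _ he, fun h => hne ?_, ?_⟩
  · rw [hf] at h
    have h1 : tw e v = tw u e := (hC.tw_self_tw hu _).symm.trans (congrArg (tw u) h)
    rw [hC.braid hu he (fun h => heu h.symm)] at h1
    exact (mul_left_cancel (mul_right_cancel h1)).symm
  · have h1 : tw e (tw (u * v) e) = tw (u * v) e := by
      rw [hf]
      have h2 : tw u (tw e v) = tw (tw e u) v := by
        have h3 : tw u v = v := by rw [tw, huv.eq, mul_inv_cancel_right]
        calc tw u (tw e v) = tw (tw u e) (tw u v) := by simp [tw, mul_assoc]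
          _ = tw (tw e u) v := by rw [hC.braid hu he (fun h => heu h.symm), h3]
      calc tw e (tw u (tw e v)) = tw e (tw (tw e u) v) := by rw [h2]
        _ = tw (tw e (tw e u)) (tw e v) := by simp [tw, mul_assoc]
        _ = tw u (tw e v) := by rw [hC.tw_self_tw he]
    exact mul_inv_eq_iff_eq_mul.1 h1

/-- A subset containing all neighbours of its members. -/
theorem not_comm_of_closed {T : Set G} (hT : T ⊆ D) (hcl : ∀ t ∈ T, ∀ y ∈ nbrs D t, y ∈ T) {e : G}
    (he : e ∈ D) (heT : e ∉ T) {t : G} (ht : t ∈ T) : ¬ Commute e t := fun h =>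
  heT (hcl t ht e ⟨he, fun h' => heT (h' ▸ ht), h.symm⟩)

section Five
open Equiv

/-- A pair of neighbours with different neighbourhoods spans a symmetric group of degree five. -/
theorem exists_sym_five {a d x : G} (ha : a ∈ D) (hd : d ∈ nbrs D a) (hx : x ∈ nbrs D a) {b : G}
    (hb : b ∈ nbrs D d) (hbx : b ∉ nbrs D x) :
    ∃ φ : Perm (Fin 5) →* G, Function.Injective φ ∧ (∀ i j, i ≠ j → φ (swap i j) ∈ D) ∧
      (∀ t ∈ {z | ∃ i j, i ≠ j ∧ φ (swap i j) = z}, ∀ y ∈ nbrs D t, y ∈ {z | ∃ i j, i ≠ j ∧ φ (swap i j) = z}) := by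
  have had : a ∈ nbrs D d := hC.mem_symm ha hd
  have hax : a ∈ nbrs D x := hC.mem_symm ha hx
  have hdx : d ≠ x := fun h => hbx (h ▸ hb)
  have hba : b ≠ a := fun h => hbx (h ▸ hax)
  have hxb : x ≠ b := by
    rintro rfl
    exact hC.not_comm ha hd hx hdx hb.2.2
  have n1 : ¬ Commute d x := hC.not_comm ha hd hx hdx
  have n2 : ¬ Commute x b := fun h => hbx ⟨hb.1, hxb.symm, h⟩
  have n3 : ¬ Commute b a := hC.not_comm hd.1 hb had hba
  have br : ∀ {p q : G}, p ∈ D → q ∈ D → ¬ Commute p q → p * q * p = q * p * q := fun {p q} hp hq h => by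
    have := hC.braid hp hq h
    rwa [tw, tw, hC.inv_eq hp, hC.inv_eq hq] at this
  have hadj : Adj ![d, x, b, a] := by
    refine ⟨fun i => ?_, fun i j hij => ?_, fun i j hij => ?_⟩
    · fin_cases i
      exacts [hC.mul_self hd.1, hC.mul_self hx.1, hC.mul_self hb.1, hC.mul_self ha]
    · fin_cases i <;> fin_cases j <;> simp at hij
      exacts [hb.2.2.eq, hd.2.2.eq.symm, hx.2.2.eq.symm]
    · fin_cases i <;> fin_cases j <;> simp at hij
      exacts [br hd.1 hx.1 n1, br hx.1 hb.1 n2, br hb.1 ha n3]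
  obtain ⟨φ, hφ⟩ := exists_hom hadj
  have h01 : φ (swap 0 1) = d := hφ 0
  have h34 : φ (swap 3 4) = a := hφ 3
  have hinj : Function.Injective φ := injective_of_ne (by rw [h01, h34]; exact hd.2.1)
  have hmem : ∀ i j : Fin 5, i ≠ j → φ (swap i j) ∈ D := fun i j hij => by
    obtain ⟨σ, hσ⟩ := isConj_iff.1 (Equiv.Perm.isConj_swap (w := 0) (x := 1) (by decide) hij)
    rw [← hσ, map_mul, map_mul, map_inv, h01]
    exact hC.conj _ d hd.1
  refine ⟨φ, hinj, hmem, ?_⟩
  rintro t ⟨i, j, hij, rfl⟩ y hy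
  have key : ∀ i j : Fin 5, i ≠ j → ∃ k l m : Fin 5, k ≠ l ∧ k ≠ m ∧ l ≠ m ∧
      i ≠ k ∧ i ≠ l ∧ i ≠ m ∧ j ≠ k ∧ j ≠ l ∧ j ≠ m := by decide +kernel
  obtain ⟨k, l, m, hkl, hkm, hlm, hik, hil, him, hjk, hjl, hjm⟩ := key i j hij
  have hn : ∀ p q : Fin 5, p ≠ q → i ≠ p → i ≠ q → j ≠ p → j ≠ q → φ (swap p q) ∈ nbrs D (φ (swap i j)) := by
    intro p q hpq hip hiq hjp hjq
    refine ⟨hmem p q hpq, fun h => ?_, ?_⟩
    · have h1 := congrArg (fun σ : Perm (Fin 5) => σ p) (hinj h)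
      simp [swap_apply_of_ne_of_ne hip.symm hjp.symm] at h1
      exact hpq h1.symm
    · refine Commute.map ?_ φ
      refine Equiv.ext fun z => ?_
      exact (by decide +kernel : ∀ i j p q z : Fin 5, i ≠ p → i ≠ q → j ≠ p → j ≠ q →
        swap i j (swap p q z) = swap p q (swap i j z)) i j p q z hip hiq hjp hjq
  have hne : ∀ p q r s : Fin 5, swap p q ≠ swap r s → φ (swap p q) ≠ φ (swap r s) := fun p q r s h h' => h (hinj h')
  have hd3 := (by decide +kernel : ∀ k l m : Fin 5, k ≠ l → k ≠ m → l ≠ m →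
    swap k l ≠ swap k m ∧ swap k l ≠ swap l m ∧ swap k m ≠ swap l m) k l m hkl hkm hlm
  rcases hC.exhaust (hmem i j hij) (hn k l hkl hik hil hjk hjl) (hn k m hkm hik him hjk hjm)
    (hn l m hlm hil him hjl hjm) (hne _ _ _ _ hd3.1) (hne _ _ _ _ hd3.2.1) (hne _ _ _ _ hd3.2.2) hy with h | h | h
  exacts [⟨k, l, hkl, h.symm⟩, ⟨k, m, hkm, h.symm⟩, ⟨l, m, hlm, h.symm⟩]

/-- Such a configuration contains every member. -/
theorem exists_eq_swap {φ : Perm (Fin 5) →* G} (hinj : Function.Injective φ)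
    (hmem : ∀ i j, i ≠ j → φ (swap i j) ∈ D)
    (hcl : ∀ t ∈ {z | ∃ i j, i ≠ j ∧ φ (swap i j) = z}, ∀ y ∈ nbrs D t, y ∈ {z | ∃ i j, i ≠ j ∧ φ (swap i j) = z})
    {e : G} (he : e ∈ D) : ∃ i j, i ≠ j ∧ φ (swap i j) = e := by
  by_contra heT
  have hnc : ∀ i j : Fin 5, i ≠ j → ¬ Commute e (φ (swap i j)) := fun i j hij =>
    hC.not_comm_of_closed (T := {z | ∃ i j, i ≠ j ∧ φ (swap i j) = z})
      (by rintro _ ⟨p, q, hpq, rfl⟩; exact hmem p q hpq) hcl he heT ⟨i, j, hij, rfl⟩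
  have step : ∀ p q r s : Fin 5, p ≠ q → r ≠ s → swap p q ≠ swap r s →
      swap p q * swap r s = swap r s * swap p q → tw (φ (swap p q * swap r s)) e ∈ nbrs D e := by
    intro p q r s hpq hrs hne hc
    rw [map_mul]
    exact hC.pair_step (hmem p q hpq) (hmem r s hrs) he (Commute.map hc φ) (fun h => hne (hinj h))
      (hnc p q hpq) (hnc r s hrs)
  set g1 := φ (swap 0 1 * swap 2 3) with hg1
  set g2 := φ (swap 0 2 * swap 1 3) with hg2
  set g3 := φ (swap 0 3 * swap 1 2) with hg3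
  have e1 : tw g1 e ∈ nbrs D e := step 0 1 2 3 (by decide) (by decide) (by decide) (by decide)
  have e2 : tw g2 e ∈ nbrs D e := step 0 2 1 3 (by decide) (by decide) (by decide) (by decide)
  have e3 : tw g3 e ∈ nbrs D e := step 0 3 1 2 (by decide) (by decide) (by decide) (by decide)
  have h12 : g1 * g2 = g3 := by rw [hg1, hg2, hg3, ← map_mul]; congr 1; decide
  have h13 : g1 * g3 = g2 := by rw [hg1, hg2, hg3, ← map_mul]; congr 1; decide
  have h11 : g1 * g1 = 1 := by rw [hg1, ← map_mul, ← map_one φ]; congr 1; decide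
  have t1 : tw g1 (tw g1 e) = e := by rw [tw_tw, h11]; simp [tw]
  have t2 : tw g1 (tw g2 e) = tw g3 e := by rw [tw_tw, h12]
  have t3 : tw g1 (tw g3 e) = tw g2 e := by rw [tw_tw, h13]
  have d12 : tw g1 e ≠ tw g2 e := fun h => e3.2.1 (by rw [← t2, ← h, t1])
  have d13 : tw g1 e ≠ tw g3 e := fun h => e2.2.1 (by rw [← t3, ← h, t1])
  have hcomm : Commute (tw g1 e) (tw g3 e) := by
    have := (hC.nbrs_tw g1 e2).2.2
    rwa [t2] at this
  exact hC.not_comm he e1 e3 d13 hcomm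

end Five

end Cubic

end Cfsg.Lib.Fischer.LocalSym
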