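import Cfsg.Agent.Lib.Fischer.LocalSym.Graph

/-!
# The case where two members with a common neighbour have the same neighbours
-/

set_option autoImplicit false
set_option linter.style.haveILetI false

namespace Cfsg.Lib.Fischer.LocalSym

variable {G : Type*} [Group G] {D : Set G}

theorem tw_fixed {g x : G} (h : Commute g x) : tw g x = x := mul_inv_eq_iff_eq_mul.2 h.eq

namespace Cubic

variable (hC : Cubic D)
  (hSq : ∀ a ∈ D, ∀ x ∈ nbrs D a, ∀ y ∈ nbrs D a, nbrs D x = nbrs D y)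
include hC hSq

/-- A product of two members with the same neighbours preserves neighbourhoods. -/
theorem pair_preserves {u v : G} (hu : u ∈ D) (hv : v ∈ D) (huv : nbrs D u = nbrs D v) (hne : u ≠ v) {e : G}
    (he : e ∈ D) : nbrs D (tw (u * v) e) = nbrs D e := by
  obtain ⟨w, hw, -⟩ := hC.two u hu
  have hwv : w ∈ nbrs D v := huv ▸ hw
  have hgw : tw (u * v) w = w := tw_fixed (hw.2.2.mul_left hwv.2.2)
  by_cases heu : e ∈ nbrs D u
  · have hev : e ∈ nbrs D v := huv ▸ heu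
    rw [tw_fixed (heu.2.2.mul_left hev.2.2)]
  by_cases hew : Commute e w
  · by_cases h : e = w
    · exact absurd (h ▸ hw) heu
    have h1 : e ∈ nbrs D w := ⟨he, h, hew.symm⟩
    have h2 := hC.nbrs_tw (u * v) h1
    rw [hgw] at h2
    exact (hSq w hw.1 e h1 _ h2).symm
  have heu' : ¬ Commute e u := fun h => by
    by_cases h' : e = u
    · exact hew (h' ▸ hw.2.2)
    · exact heu ⟨he, h', h.symm⟩
  have hev' : ¬ Commute e v := fun h => by
    by_cases h' : e = v
    · exact hew (h' ▸ hwv.2.2)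
    · exact heu (huv ▸ ⟨he, h', h.symm⟩)
  have f1 := hC.pair_step hw.1 hv he hwv.2.2.symm hwv.2.1 hew hev'
  have f2 := hC.pair_step hu hw.1 he hw.2.2 hw.2.1.symm heu' hew
  have h3 := hC.nbrs_tw (u * w) f1
  rw [tw_tw, show u * w * (w * v) = u * v by
    rw [mul_assoc, ← mul_assoc w, hC.mul_self hw.1, one_mul]] at h3
  exact hSq _ f2.1 _ h3 _ (hC.mem_symm he f2)

/-- Products of members with the same neighbours lie in the 3-core of the neighbourhood stabilizer. -/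
theorem exists_three_normal [Finite G] : ∃ N : Subgroup G, N.Normal ∧ IsPGroup 3 N ∧
    ∀ u ∈ D, ∀ v ∈ D, nbrs D u = nbrs D v → u * v ∈ N := by
  let K : Subgroup G :=
    { carrier := {g | ∀ e ∈ D, nbrs D (tw g e) = nbrs D e}
      one_mem' := fun e _ => by simp [tw]
      mul_mem' := fun {g h} hg hh e he => by rw [← tw_tw, hg _ (hC.tw_mem h he), hh e he]
      inv_mem' := fun {g} hg e he => by
        have h := hg _ (hC.tw_mem g⁻¹ he)
        rw [tw_tw, mul_inv_cancel, show tw 1 e = e by simp [tw]] at h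
        exact h.symm }
  have hK : ∀ g ∈ K, ∀ e ∈ D, nbrs D (tw g e) = nbrs D e := fun g hg => hg
  have hnb : ∀ g : G, ∀ x y, x ∈ D → y ∈ D → nbrs D x = nbrs D y → nbrs D (tw g x) = nbrs D (tw g y) := by
    intro g x y hx hy h
    ext z
    have e : z = tw g (tw g⁻¹ z) := by rw [tw_tw, mul_inv_cancel]; simp [tw]
    constructor <;> intro hz
    · have h1 := hC.nbrs_tw g⁻¹ hz
      rw [tw_tw g⁻¹ g, inv_mul_cancel, show tw 1 x = x by simp [tw], h] at h1
      rw [e]; exact hC.nbrs_tw g h1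
    · have h1 := hC.nbrs_tw g⁻¹ hz
      rw [tw_tw g⁻¹ g, inv_mul_cancel, show tw 1 y = y by simp [tw], ← h] at h1
      rw [e]; exact hC.nbrs_tw g h1
  haveI hKn : K.Normal := ⟨fun k hk g e he => by
    have h1 := hnb g _ _ (hC.tw_mem k (hC.tw_mem g⁻¹ he)) (hC.tw_mem g⁻¹ he) (hk _ (hC.tw_mem g⁻¹ he))
    rwa [tw_tw, tw_tw, tw_tw, mul_inv_cancel, show tw 1 e = e by simp [tw]] at h1⟩
  refine ⟨(Cfsg.pCore 3 K).map K.subtype, inferInstance, (Lib.Core.pCore_isPGroup 3 K).map _,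
    fun u hu v hv huv => ?_⟩
  by_cases hne : u = v
  · rw [hne, hC.mul_self hv]; exact one_mem _
  have huvK : u * v ∈ K := fun e he => hC.pair_preserves hSq hu hv huv hne he
  obtain ⟨w, hw, -⟩ := hC.two u hu
  have huw := hC.mem_symm hu hw
  have hvw : v ∈ nbrs D w := hC.mem_symm hv (huv ▸ hw)
  have hnc : ¬ Commute u v := hC.not_comm hw.1 huw hvw hne
  have h3 : (u * v) ^ 3 = 1 := (hC.set.2 u hu v hv).resolve_left fun h2 => hnc (by
    rw [pow_two, ← eq_inv_iff_mul_eq_one, mul_inv_rev, hC.inv_eq hu, hC.inv_eq hv] at h2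
    exact h2)
  have hprod : ∀ p ∈ nbrs D w, ∀ q ∈ nbrs D w, p * q ∈ Subgroup.zpowers (u * v) := by
    intro p hp q hq
    set Z := Subgroup.zpowers (u * v)
    have m1 : u * v ∈ Z := Subgroup.mem_zpowers _
    have m2 : v * u ∈ Z := by
      have := inv_mem m1
      rwa [mul_inv_rev, hC.inv_eq hu, hC.inv_eq hv] at this
    have key : ∀ r ∈ nbrs D w, u * r ∈ Z := fun r hr => by
      rcases hC.three w hw.1 u huw v hvw hne r hr with rfl | rfl | rfl
      · rw [hC.mul_self hu]; exact one_mem _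
      · exact m1
      · rw [← mul_assoc, ← mul_assoc, hC.mul_self hu, one_mul]; exact m2
    have h := mul_mem (inv_mem (key p hp)) (key q hq)
    rwa [mul_inv_rev, hC.inv_eq hu, hC.inv_eq hp.1, mul_assoc, ← mul_assoc u, hC.mul_self hu, one_mul] at h
  have hn : ((Subgroup.zpowers (u * v)).subgroupOf K).Normal := by
    refine (Subgroup.normal_subgroupOf_iff_le_normalizer (Subgroup.zpowers_le.2 huvK)).2 fun k hk => ?_
    refine Subgroup.mem_normalizer_fintype fun z hz => ?_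
    obtain ⟨i, rfl⟩ := Subgroup.mem_zpowers_iff.1 hz
    rw [← conj_zpow]
    refine Subgroup.zpow_mem _ ?_ i
    have hku : tw k u ∈ nbrs D w := hC.mem_symm (hC.tw_mem k hu) ((hK k hk u hu).symm ▸ hw)
    have hkv : tw k v ∈ nbrs D w := hC.mem_symm (hC.tw_mem k hv) ((hK k hk v hv).symm ▸ (huv ▸ hw))
    have := hprod _ hku _ hkv
    rwa [← tw_mul] at this
  haveI : Fact (Nat.Prime 3) := ⟨Nat.prime_three⟩
  have hp : IsPGroup 3 (Subgroup.zpowers (u * v)) := fun z => by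
    obtain ⟨i, hi⟩ := Subgroup.mem_zpowers_iff.1 z.2
    refine ⟨1, Subtype.ext ?_⟩
    rw [pow_one, SubmonoidClass.coe_pow, ← hi, ← zpow_natCast, ← zpow_mul, mul_comm, zpow_mul, zpow_natCast,
      h3, one_zpow]
    rfl
  exact ⟨⟨u * v, huvK⟩, Lib.Core.le_pCore' hn
    (hp.of_equiv (Subgroup.subgroupOfEquivOfLe (Subgroup.zpowers_le.2 huvK)).symm) (Subgroup.mem_zpowers _), rfl⟩

/-- A single component contains every member when centralizers have 3-cores of order three. -/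
theorem no_outside [Finite G] (hcore : ∀ d ∈ D, Nat.card (Cfsg.pCore 3 (Subgroup.centralizer ({d} : Set G))) = 3)
    {d a : G} (hd : d ∈ D) (ha : a ∈ nbrs D d) {e : G} (he : e ∈ D) : e ∈ nbrs D a ∨ e ∈ nbrs D d := by
  by_contra hcon
  push Not at hcon
  obtain ⟨heA, heD⟩ := hcon
  have hda := hC.mem_symm hd ha
  have hcl : ∀ t ∈ nbrs D a ∪ nbrs D d, ∀ y ∈ nbrs D t, y ∈ nbrs D a ∪ nbrs D d := by
    rintro t (ht | ht) y hy
    · exact Or.inr (hSq a ha.1 t ht d hda ▸ hy)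
    · exact Or.inl (hSq d hd t ht a ha ▸ hy)
  have hnc : ∀ t ∈ nbrs D a ∪ nbrs D d, ¬ Commute e t := fun t ht =>
    hC.not_comm_of_closed (T := nbrs D a ∪ nbrs D d)
      (by rintro t (h | h) <;> exact h.1) hcl he (fun h => h.elim heA heD) ht
  have hstep : ∀ x ∈ nbrs D a, ∀ y ∈ nbrs D d, tw (x * y) e ∈ nbrs D e ∧ Commute x y ∧ x ≠ y := by
    intro x hx y hy
    have hy' : y ∈ nbrs D x := (hSq a ha.1 x hx d hda).symm ▸ hy
    exact ⟨hC.pair_step hx.1 hy.1 he hy'.2.2 hy'.2.1.symm (hnc x (Or.inl hx)) (hnc y (Or.inr hy)),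
      hy'.2.2, hy'.2.1.symm⟩
  -- injectivity in the first entry
  have hinj : ∀ x ∈ nbrs D a, ∀ x' ∈ nbrs D a, tw (x * a) e = tw (x' * a) e → x = x' := by
    intro x hx x' hx' h
    rw [← tw_tw, ← tw_tw] at h
    have hne : ∀ z ∈ nbrs D a, ¬ Commute z (tw a e) := fun z hz hc => by
      apply hnc z (Or.inl hz)
      have h1 := (Commute.conj_iff a).2 hc
      rw [show a * z * a⁻¹ = tw a z from rfl, show a * tw a e * a⁻¹ = tw a (tw a e) from rfl,
        hC.tw_self_tw ha.1, tw_fixed hz.2.2] at h1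
      exact h1.symm
    have he' := hC.tw_mem a he
    rw [hC.braid hx.1 he' (hne x hx), hC.braid hx'.1 he' (hne x' hx')] at h
    exact mul_left_cancel (mul_right_cancel h)
  obtain ⟨a', ha', b', hb', hab'⟩ := hC.two d hd
  obtain ⟨b, hb, hba⟩ : ∃ b ∈ nbrs D d, b ≠ a := by
    by_cases h : a' = a
    · exact ⟨b', hb', fun h' => hab' (h.trans h'.symm)⟩
    · exact ⟨a', ha', h⟩
  obtain ⟨x1, hx1, x2, hx2, hx12⟩ := hC.two a ha.1
  set x3 := x1 * x2 * x1 with hx3d
  have hx3 : x3 ∈ nbrs D a := by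
    have h := hC.nbrs_tw x1 hx2
    rw [tw_fixed hx1.2.2.symm] at h
    simpa [tw, hC.inv_eq hx1.1] using h
  have h13 : x1 ≠ x3 := fun h => hx12 (by
    rw [hx3d, mul_assoc] at h
    have h1 : x2 * x1 = 1 := mul_left_cancel (h.symm.trans (mul_one x1).symm)
    rw [← hC.inv_eq hx2.1, inv_mul_eq_one] at h1
    exact h1.symm)
  have h23 : x2 ≠ x3 := fun h => hC.not_comm ha.1 hx1 hx2 hx12 (by
    rw [hx3d] at h
    show x1 * x2 = x2 * x1
    nth_rw 2 [h]
    rw [mul_assoc _ x1, hC.mul_self hx1.1, mul_one])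
  obtain ⟨f1m, hdb, -⟩ := hstep d hda b hb
  obtain ⟨x, hx, hxf⟩ : ∃ x ∈ nbrs D a, tw (x * a) e = tw (d * b) e := by
    rcases hC.exhaust he (hstep x1 hx1 a ha).1 (hstep x2 hx2 a ha).1 (hstep x3 hx3 a ha).1
      (fun h => hx12 (hinj x1 hx1 x2 hx2 h)) (fun h => h13 (hinj x1 hx1 x3 hx3 h))
      (fun h => h23 (hinj x2 hx2 x3 hx3 h)) f1m with h | h | h
    exacts [⟨x1, hx1, h.symm⟩, ⟨x2, hx2, h.symm⟩, ⟨x3, hx3, h.symm⟩]
  set f := tw (d * b) e with hf
  set m := x * a * (d * b) with hm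
  have sqp : ∀ {p q : G}, p ∈ D → q ∈ D → Commute p q → p * q * (p * q) = 1 := fun {p q} hp hq h => by
    rw [mul_assoc, ← mul_assoc q, ← h.eq, mul_assoc, hC.mul_self hq, mul_one, hC.mul_self hp]
  have hxa : Commute x a := hx.2.2.symm
  have hme : tw m e = e := by
    rw [hm, ← tw_tw, ← hf, ← hxf, tw_tw, sqp hx.1 ha.1 hxa]; simp [tw]
  have hmf : tw m f = f := by
    rw [hm, ← tw_tw]
    have h1 : tw (d * b) f = e := by rw [hf, tw_tw, sqp hd hb.1 hdb]; simp [tw]
    rw [h1, hxf]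
  obtain ⟨N, hN, hN3, hNp⟩ := hC.exists_three_normal hSq
  have hsame : nbrs D x = nbrs D d := hSq a ha.1 x hx d hda
  have hsame' : nbrs D a = nbrs D b := hSq d hd a ha b hb
  have hmd : m = (x * d) * (a * b) := by
    rw [hm]
    simp only [mul_assoc]
    rw [← mul_assoc a d, ha.2.2.eq.symm, mul_assoc]
  have hmN : m ∈ N := hmd ▸ mul_mem (hNp x hx.1 d hd hsame) (hNp a ha.1 b hb.1 hsame')
  have hm1 : m ≠ 1 := fun h => by
    rw [hmd] at h
    have h1 : Commute a (x * d) := hxa.symm.mul_right ha.2.2.symm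
    rw [eq_inv_of_mul_eq_one_left h] at h1
    have h2 : Commute a (a * b) := by simpa using h1.inv_right
    have h3 : Commute a b := mul_left_cancel (h2.eq.trans (mul_assoc a b a))
    exact hC.not_comm hd ha hb hba.symm h3
  -- a second neighbour of `e`
  obtain ⟨g1, hg1, g2, hg2, hg12⟩ := hC.two e he
  obtain ⟨g, hg, hgf⟩ : ∃ g ∈ nbrs D e, g ≠ f := by
    by_cases h : g1 = f
    · exact ⟨g2, hg2, fun h' => hg12 (h.trans h'.symm)⟩
    · exact ⟨g1, hg1, h⟩
  have hfgN : f * g ∈ N := hNp f f1m.1 g hg.1 (hSq e he f f1m g hg)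
  set C := Subgroup.centralizer ({e} : Set G)
  have hle : N.subgroupOf C ≤ Cfsg.pCore 3 C :=
    Lib.Core.le_pCore' inferInstance (hN3.comap_of_injective C.subtype C.subtype_injective)
  let mC : C := ⟨m, Subgroup.mem_centralizer_singleton_iff.2 (mul_inv_eq_iff_eq_mul.1 hme)⟩
  let fgC : C := ⟨f * g, Subgroup.mem_centralizer_singleton_iff.2
    ((f1m.2.2.mul_right hg.2.2).eq.symm)⟩
  have hmP : mC ∈ Cfsg.pCore 3 C := hle (Subgroup.mem_subgroupOf.2 hmN)
  have hfP : fgC ∈ Cfsg.pCore 3 C := hle (Subgroup.mem_subgroupOf.2 hfgN)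
  haveI : Fact (Nat.Prime 3) := ⟨Nat.prime_three⟩
  have hmne : (⟨mC, hmP⟩ : Cfsg.pCore 3 C) ≠ 1 := fun h => hm1 (by
    exact congrArg (fun z : Cfsg.pCore 3 C => ((z : C) : G)) h)
  have hmem := mem_zpowers_of_prime_card (g' := (⟨fgC, hfP⟩ : Cfsg.pCore 3 C)) (hcore e he) hmne
  obtain ⟨i, hi⟩ := Subgroup.mem_zpowers_iff.1 hmem
  have hi' : m ^ i = f * g := by
    have := congrArg (fun z : Cfsg.pCore 3 C => ((z : C) : G)) hi
    simpa [mC, fgC] using this
  have hmfc : Commute m f := mul_inv_eq_iff_eq_mul.1 hmf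
  have h4 : Commute (f * g) f := hi' ▸ hmfc.zpow_left i
  have h5 : Commute f g := mul_left_cancel (h4.eq.symm.trans (mul_assoc f g f))
  exact hC.not_comm he f1m hg hgf.symm h5

end Cubic

end Cfsg.Lib.Fischer.LocalSym
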