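import Cfsg.Agent.Lib.Fischer.LocalSym.SymFive

/-!
# The Coxeter relations of the symmetric groups
-/

set_option autoImplicit false

namespace Cfsg.Lib.Fischer.LocalSym

open Equiv

/-- The relations of adjacent transpositions, for any number of them. -/
structure AdjN {G : Type*} [Group G] {n : ℕ} (g : Fin n → G) : Prop where
  sq : ∀ i, g i * g i = 1
  far : ∀ i j : Fin n, (i : ℕ) + 2 ≤ j → g i * g j = g j * g i
  near : ∀ i j : Fin n, (i : ℕ) + 1 = j → g i * g j * g i = g j * g i * g j

theorem card_leN {G : Type*} [Group G] : ∀ {n : ℕ} (g : Fin n → G), AdjN g →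
    Finite (Subgroup.closure (Set.range g)) ∧ Nat.card (Subgroup.closure (Set.range g)) ≤ (n + 1).factorial
  | 0, g, _ => by
    have h : Subgroup.closure (Set.range g) = ⊥ := by
      rw [Set.range_eq_empty, Subgroup.closure_empty]
    rw [h]
    exact ⟨inferInstance, by simp⟩
  | n + 1, g, hg => by
    obtain ⟨hfin, hle⟩ := card_leN (fun i : Fin n => g i.succ)
      ⟨fun i => hg.sq _, fun i j h => hg.far _ _ (by simp; omega), fun i j h => hg.near _ _ (by simp; omega)⟩
    obtain ⟨K, hK⟩ : ∃ K, K = Subgroup.closure (Set.range fun i : Fin n => g i.succ) := ⟨_, rfl⟩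
    rw [← hK] at hfin hle
    obtain ⟨h, hh⟩ : ∃ h : ℕ → G, ∀ i, h i = if hi : i < n + 1 then g ⟨i, hi⟩ else 1 := ⟨_, fun _ => rfl⟩
    have hgh : ∀ i : Fin (n + 1), g i = h i := fun i => by rw [hh, dif_pos i.2]
    let r : ℕ → G := fun j => Nat.rec (motive := fun _ => G) 1 (fun k w => h k * w) j
    have r0 : r 0 = 1 := rfl
    have rs : ∀ k, r (k + 1) = h k * r k := fun _ => rfl
    have hfar : ∀ i k, k + 2 ≤ i → i < n + 1 → h k * h i = h i * h k := fun i k hk hi => by
      rw [hh, hh, dif_pos hi, dif_pos (by omega : k < n + 1)]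
      exact hg.far _ _ hk
    have above : ∀ j i, j < i → i < n + 1 → h i * r j = r j * h i := by
      intro j
      induction j with
      | zero => intro i _ _; rw [r0, one_mul, mul_one]
      | succ j ih =>
        intro i hji hi
        rw [rs, ← mul_assoc, ← hfar i j (by omega) hi, mul_assoc, ih i (by omega) hi, mul_assoc]
    have below : ∀ j i, i + 1 < j → j ≤ n + 1 → h i * r j = r j * h (i + 1) := by
      intro j
      induction j with
      | zero => intro i h _; omega
      | succ j ih =>
        intro i hij hj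
        rw [rs]
        rcases Nat.eq_or_lt_of_le (Nat.lt_succ_iff.1 hij) with e | hlt
        · subst e
          rw [rs]
          have hn : h i * h (i + 1) * h i = h (i + 1) * h i * h (i + 1) := by
            rw [hh i, hh (i + 1), dif_pos (by omega : i < n + 1), dif_pos (by omega : i + 1 < n + 1)]
            exact hg.near _ _ rfl
          calc h i * (h (i + 1) * (h i * r i)) = h i * h (i + 1) * h i * r i := by simp only [mul_assoc]
            _ = h (i + 1) * h i * (h (i + 1) * r i) := by rw [hn]; simp only [mul_assoc]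
            _ = _ := by rw [above i (i + 1) (by omega) (by omega)]; simp only [mul_assoc]
        · rw [← mul_assoc, hfar j i (by omega) (by omega), mul_assoc, ih i (by omega) (by omega), mul_assoc]
    have hmem : ∀ i, i < n + 1 → 0 < i → h i ∈ K := fun i hi h0 => by
      rw [hK, hh, dif_pos hi]
      refine Subgroup.subset_closure ⟨⟨i - 1, by omega⟩, congrArg g (Fin.ext ?_)⟩
      simp only [Fin.val_succ]
      omega
    haveI := hfin
    have hstep : ∀ x ∈ Set.range g, ∀ j : Fin (n + 2), ∃ k : Fin (n + 2), (r k)⁻¹ * (x * r j) ∈ K := by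
      rintro _ ⟨i, rfl⟩ ⟨j, hj⟩
      rw [hgh]
      rcases lt_trichotomy i.1 j with hij | hij | hij
      · rcases Nat.eq_or_lt_of_le (Nat.succ_le_of_lt hij) with e | hlt
        · refine ⟨⟨i.1, by omega⟩, ?_⟩
          subst e
          show (r i.1)⁻¹ * (h i.1 * (h i.1 * r i.1)) ∈ K
          rw [← mul_assoc (h i.1), hh, dif_pos i.2, hg.sq, one_mul, inv_mul_cancel]
          exact one_mem _
        · refine ⟨⟨j, hj⟩, ?_⟩
          rw [below j i.1 hlt (by omega), inv_mul_cancel_left]
          exact hmem _ (by omega) (by omega)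
      · refine ⟨⟨j + 1, by omega⟩, ?_⟩
        show (r (j + 1))⁻¹ * (h i.1 * r j) ∈ K
        rw [rs, hij, inv_mul_cancel]
        exact one_mem _
      · refine ⟨⟨j, hj⟩, ?_⟩
        rw [above j i.1 hij i.2, inv_mul_cancel_left]
        exact hmem _ i.2 (by omega)
    obtain ⟨h1, h2⟩ := card_closure_le (fun j : Fin (n + 2) => r j) (s := Set.range g)
      (fun x hx => by obtain ⟨i, rfl⟩ := hx; exact hg.sq i) K ⟨0, by simp [r0]⟩ hstep
    refine ⟨h1, h2.trans ?_⟩
    rw [Nat.factorial_succ (n + 1)]
    exact Nat.mul_le_mul le_rfl hle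

/-- The relators of adjacent transpositions. -/
def adjRelsN (n : ℕ) : Set (FreeGroup (Fin n)) :=
  {r | ∃ i, r = FreeGroup.of i * FreeGroup.of i} ∪
  {r | ∃ i j : Fin n, (i : ℕ) + 2 ≤ j ∧
    r = FreeGroup.of i * FreeGroup.of j * (FreeGroup.of j * FreeGroup.of i)⁻¹} ∪
  {r | ∃ i j : Fin n, (i : ℕ) + 1 = j ∧ r = FreeGroup.of i * FreeGroup.of j * FreeGroup.of i *
    (FreeGroup.of j * FreeGroup.of i * FreeGroup.of j)⁻¹}

theorem lift_adjRelsN {K : Type*} [Group K] {n : ℕ} (f : Fin n → K) (hf : AdjN f) :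
    ∀ r ∈ adjRelsN n, FreeGroup.lift f r = 1 := by
  intro r hr
  rcases hr with (⟨i, rfl⟩ | ⟨i, j, hij, rfl⟩) | ⟨i, j, hij, rfl⟩ <;>
    simp only [map_mul, map_inv, FreeGroup.lift_apply_of]
  · exact hf.sq i
  · rw [hf.far i j hij, mul_inv_cancel]
  · rw [hf.near i j hij, mul_inv_cancel]

/-- The relations of adjacent transpositions give a homomorphism of the symmetric group. -/
theorem exists_homN {G : Type*} [Group G] {n : ℕ} {g : Fin n → G} (hg : AdjN g)
    (hs : AdjN fun i : Fin n => swap i.castSucc i.succ) :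
    ∃ φ : Perm (Fin (n + 1)) →* G, ∀ i : Fin n, φ (swap i.castSucc i.succ) = g i := by
  have hrel : AdjN (fun i : Fin n => (PresentedGroup.of i : PresentedGroup (adjRelsN n))) := by
    have h1 : ∀ r ∈ adjRelsN n, PresentedGroup.mk (adjRelsN n) r = 1 :=
      fun r hr => PresentedGroup.one_of_mem hr
    refine ⟨fun i => ?_, fun i j hij => ?_, fun i j hij => ?_⟩
    · exact (map_mul _ _ _).symm.trans (h1 _ (Or.inl (Or.inl ⟨i, rfl⟩)))
    · refine mul_inv_eq_one.1 ?_
      have := h1 _ (Or.inl (Or.inr ⟨i, j, hij, rfl⟩))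
      simpa [map_mul, map_inv, PresentedGroup.of] using this
    · refine mul_inv_eq_one.1 ?_
      have := h1 _ (Or.inr ⟨i, j, hij, rfl⟩)
      simpa [map_mul, map_inv, PresentedGroup.of] using this
  obtain ⟨hfin, hle⟩ := card_leN _ hrel
  rw [PresentedGroup.closure_range_of] at hfin hle
  haveI : Finite (PresentedGroup (adjRelsN n)) :=
    Finite.of_equiv _ (Subgroup.topEquiv (G := PresentedGroup (adjRelsN n))).toEquiv
  rw [Subgroup.card_top] at hle
  let π : PresentedGroup (adjRelsN n) →* Perm (Fin (n + 1)) :=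
    PresentedGroup.toGroup (lift_adjRelsN _ hs)
  have hπ : Function.Surjective π := by
    intro σ
    have hσ : σ ∈ Submonoid.closure (Set.range fun i : Fin n => swap i.castSucc i.succ) := by
      rw [Equiv.Perm.mclosure_swap_castSucc_succ n]; trivial
    induction hσ using Submonoid.closure_induction with
    | mem y hy =>
      obtain ⟨i, rfl⟩ := hy
      exact ⟨PresentedGroup.of i, PresentedGroup.toGroup.of _⟩
    | one => exact ⟨1, map_one π⟩
    | mul p q _ _ ihp ihq =>
      obtain ⟨u, rfl⟩ := ihp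
      obtain ⟨v, rfl⟩ := ihq
      exact ⟨u * v, map_mul π u v⟩
  have hcard : Nat.card (Perm (Fin (n + 1))) = (n + 1).factorial := by rw [Nat.card_perm, Nat.card_fin]
  have hbij : Function.Bijective π := (Nat.bijective_iff_surjective_and_card _).2
    ⟨hπ, le_antisymm (hle.trans hcard.ge) (Nat.card_le_card_of_surjective π hπ)⟩
  refine ⟨(PresentedGroup.toGroup (lift_adjRelsN g hg)).comp (MulEquiv.ofBijective π hbij).symm.toMonoidHom,
    fun i => ?_⟩
  have e : (MulEquiv.ofBijective π hbij).symm (swap i.castSucc i.succ) = PresentedGroup.of i := by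
    rw [MulEquiv.symm_apply_eq]
    exact (PresentedGroup.toGroup.of (lift_adjRelsN _ hs)).symm
  show PresentedGroup.toGroup (lift_adjRelsN g hg) ((MulEquiv.ofBijective π hbij).symm _) = g i
  rw [e, PresentedGroup.toGroup.of]

end Cfsg.Lib.Fischer.LocalSym
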